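import Groth.Prelude.Def_CAlg
import Mathlib.RingTheory.Regular.RegularSequence
import Mathlib.RingTheory.Regular.Flat
import Mathlib.RingTheory.Ideal.AssociatedPrime.Finiteness

/-!
# Depth of a kernel of modules without torsion or finiteness
-/

set_option autoImplicit false

universe u

open RingTheory.Sequence

namespace Groth.DepthPush

variable {A : Type u} [CommRing A] {I : Ideal A} {M G H : Type u} [AddCommGroup M] [Module A M]
  [AddCommGroup G] [Module A G] [AddCommGroup H] [Module A H]

/-- The identity is a combination of the ideal. -/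
def Unital (I : Ideal A) (G : Type u) [AddCommGroup G] [Module A G] : Prop :=
  (1 : Module.End A G) ∈ I • (⊤ : Submodule A (Module.End A G))

theorem eq_zero_of_unital (h : Unital I G) (z : G) (hz : ∀ a ∈ I, a • z = 0) : z = 0 := by
  suffices ∀ e ∈ I • (⊤ : Submodule A (Module.End A G)), e z = 0 from this 1 h
  intro e he
  refine Submodule.smul_induction_on he (fun a ha φ _ => ?_) fun e₁ e₂ h₁ h₂ => ?_
  · rw [LinearMap.smul_apply, ← map_smul, hz a ha, map_zero]
  · rw [LinearMap.add_apply, h₁, h₂, add_zero]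

theorem exists_div_of_unital (h : Unital I G) (y : I → G)
    (hy : ∀ a b : I, (a : A) • y b = (b : A) • y a) : ∃ z, ∀ a : I, (a : A) • z = y a := by
  suffices ∀ e ∈ I • (⊤ : Submodule A (Module.End A G)), ∃ z, ∀ a : I, (a : A) • z = e (y a) from this 1 h
  intro e he
  refine Submodule.smul_induction_on he (fun b hb φ _ => ?_) fun e₁ e₂ h₁ h₂ => ?_
  · refine ⟨φ (y ⟨b, hb⟩), fun a => ?_⟩
    rw [LinearMap.smul_apply, ← map_smul, hy, map_smul]
  · obtain ⟨z₁, h₁⟩ := h₁
    obtain ⟨z₂, h₂⟩ := h₂
    exact ⟨z₁ + z₂, fun a => by rw [smul_add, h₁, h₂, LinearMap.add_apply]⟩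

theorem le_depth_of_isWeaklyRegular [IsLocalRing A] (rs : List A) (h : IsWeaklyRegular M rs)
    (hm : ∀ r ∈ rs, r ∈ IsLocalRing.maximalIdeal A) : (rs.length : ℕ∞) ≤ LocCoh.depth A M := by
  unfold LocCoh.depth LocCoh.idealDepth
  split
  · exact le_top
  · exact le_iSup₂ (f := fun (rs : List A) (_ : IsWeaklyRegular M rs ∧ ∀ r ∈ rs, r ∈ IsLocalRing.maximalIdeal A) =>
      (rs.length : ℕ∞)) rs ⟨h, hm⟩

theorem isWeaklyRegular_pair (a b : A) (ha : IsSMulRegular M a)
    (hb : ∀ x y : M, b • x = a • y → ∃ z, x = a • z) : IsWeaklyRegular M [a, b] := by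
  refine (isWeaklyRegular_cons_iff M a [b]).2 ⟨ha, (isWeaklyRegular_singleton_iff _ b).2 ?_⟩
  rw [isSMulRegular_iff_right_eq_zero_of_smul]
  intro q hq
  obtain ⟨x, rfl⟩ := Submodule.Quotient.mk_surjective _ q
  rw [← Submodule.Quotient.mk_smul, Submodule.Quotient.mk_eq_zero,
    Submodule.mem_smul_pointwise_iff_exists] at hq
  obtain ⟨y, -, hy⟩ := hq
  obtain ⟨z, rfl⟩ := hb x y hy.symm
  rw [Submodule.Quotient.mk_eq_zero, Submodule.mem_smul_pointwise_iff_exists]
  exact ⟨z, trivial, rfl⟩

/-- A maximal ideal off the associated primes contains a regular element. -/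
theorem exists_regular [IsNoetherianRing A] [IsLocalRing A] [Module.Finite A M]
    (h : ∀ x : M, (∀ a ∈ IsLocalRing.maximalIdeal A, a • x = 0) → x = 0) :
    ∃ a ∈ IsLocalRing.maximalIdeal A, IsSMulRegular M a := by
  rcases subsingleton_or_nontrivial M with hM | hM
  · exact ⟨0, zero_mem _, fun x y _ => Subsingleton.elim x y⟩
  by_contra! hno
  obtain ⟨P₀, hP₀⟩ := associatedPrimes.nonempty A M
  obtain ⟨P, hP, hle⟩ : ∃ P ∈ associatedPrimes A M, IsLocalRing.maximalIdeal A ≤ P := by
    apply (Ideal.subset_union_prime_finite (associatedPrimes.finite A M) P₀ P₀ _).mp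
    · rw [biUnion_associatedPrimes_eq_compl_regular A M]
      exact fun r hr => hno r hr
    · exact fun J hJ _ _ => IsAssociatedPrime.isPrime hJ
  obtain ⟨hPp, x, hx⟩ := isAssociatedPrime_iff.1 hP
  have hx0 : x = 0 := h x fun a ha => by
    have := hle ha
    rw [hx, Submodule.mem_colon_singleton, Submodule.mem_bot] at this
    exact this
  refine hPp.ne_top ?_
  rw [hx, Ideal.eq_top_iff_one, Submodule.mem_colon_singleton, hx0, smul_zero]
  exact zero_mem _

/-- A finite kernel of maps between modules on which the maximal ideal is invertible has depth `≥ 2`. -/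
theorem two_le_depth_of_unital [IsNoetherianRing A] [IsLocalRing A] [Module.Finite A M]
    (f : M →ₗ[A] G) (g : G →ₗ[A] H) (hf : Function.Injective f) (hfg : Function.Exact f g)
    (hG : Unital (IsLocalRing.maximalIdeal A) G) (hH : Unital (IsLocalRing.maximalIdeal A) H) :
    (2 : ℕ∞) ≤ LocCoh.depth A M := by
  obtain ⟨a, ha, hreg⟩ := exists_regular (A := A) (M := M) fun x hx => hf <| by
    rw [map_zero]
    exact eq_zero_of_unital hG _ fun c hc => by rw [← map_smul, hx c hc, map_zero]
  have key : ∀ x : M, (∀ c ∈ IsLocalRing.maximalIdeal A, ∃ y, c • x = a • y) → ∃ z, x = a • z := by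
    intro x hx
    choose y hy using fun c : IsLocalRing.maximalIdeal A => hx c c.2
    obtain ⟨w, hw⟩ := exists_div_of_unital hG (fun c => f (y c)) fun c c' => by
      rw [← map_smul, ← map_smul]
      exact congrArg f (hreg (show a • ((c : A) • y c') = a • ((c' : A) • y c) by
        rw [smul_comm, ← hy, smul_comm a, ← hy, smul_comm]))
    obtain ⟨z, hz⟩ := (hfg w).1 (eq_zero_of_unital hH _ fun c hc => by
      rw [← map_smul, hw ⟨c, hc⟩, hfg.apply_apply_eq_zero])
    refine ⟨z, hf (sub_eq_zero.1 (eq_zero_of_unital hG _ fun c hc => ?_))⟩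
    rw [smul_sub, sub_eq_zero, map_smul, hz, smul_comm c a, hw ⟨c, hc⟩, ← map_smul, ← map_smul,
      hy ⟨c, hc⟩]
  obtain ⟨b, hb, hbreg⟩ := exists_regular (A := A) (M := QuotSMulTop a M) fun q hq => by
    obtain ⟨x, rfl⟩ := Submodule.Quotient.mk_surjective _ q
    obtain ⟨z, rfl⟩ := key x fun c hc => by
      have := hq c hc
      rw [← Submodule.Quotient.mk_smul, Submodule.Quotient.mk_eq_zero,
        Submodule.mem_smul_pointwise_iff_exists] at this
      obtain ⟨y, -, hy⟩ := this
      exact ⟨y, hy.symm⟩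
    rw [Submodule.Quotient.mk_eq_zero, Submodule.mem_smul_pointwise_iff_exists]
    exact ⟨z, trivial, rfl⟩
  exact le_depth_of_isWeaklyRegular (M := M) [a, b]
    ((isWeaklyRegular_cons_iff M a [b]).2 ⟨hreg, (isWeaklyRegular_singleton_iff _ b).2 hbreg⟩)
    fun r hr => by
      simp only [List.mem_cons, List.not_mem_nil, or_false] at hr
      rcases hr with rfl | rfl <;> assumption

/-- A kernel of maps between flat modules has depth at least `min 2 (depth A)`. -/
theorem min_two_le_depth_of_flat [IsLocalRing A] [Module.Flat A G] [Module.Flat A H]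
    (f : M →ₗ[A] G) (g : G →ₗ[A] H) (hf : Function.Injective f) (hfg : Function.Exact f g) :
    min (2 : ℕ∞) (LocCoh.depth A A) ≤ LocCoh.depth A M := by
  let m := IsLocalRing.maximalIdeal A
  have hA : ¬(m • (⊤ : Submodule A A) = ⊤) := by
    rw [smul_eq_mul, Ideal.mul_top]
    exact (IsLocalRing.maximalIdeal.isMaximal A).ne_top
  have hreg : ∀ (K : Type u) [AddCommGroup K] [Module A K] [Module.Flat A K] (rs : List A),
      IsWeaklyRegular A rs → IsWeaklyRegular K rs := fun K _ _ _ rs h =>
    ((TensorProduct.rid A K).isWeaklyRegular_congr rs).1 (h.isWeaklyRegular_lTensor (M₂ := K))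
  have key : ∀ rs : List A, IsWeaklyRegular A rs → (∀ r ∈ rs, r ∈ m) →
      min (2 : ℕ∞) rs.length ≤ LocCoh.depth A M := by
    rintro (_ | ⟨a, _ | ⟨b, t⟩⟩) h hm
    · simp
    · refine (min_le_right _ _).trans (le_depth_of_isWeaklyRegular (M := M) [a] ?_ hm)
      rw [isWeaklyRegular_singleton_iff]
      exact ((isWeaklyRegular_singleton_iff _ a).1 (hreg G [a] h)).of_injective f hf
    · have h' : IsWeaklyRegular A [a, b] :=
        ((isWeaklyRegular_append_iff A [a, b] t).1 h).1
      obtain ⟨haG, hbG⟩ := (isWeaklyRegular_cons_iff G a [b]).1 (hreg G [a, b] h')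
      have haH := ((isWeaklyRegular_cons_iff H a [b]).1 (hreg H [a, b] h')).1
      refine (min_le_left _ _).trans (le_depth_of_isWeaklyRegular (M := M) [a, b]
        (isWeaklyRegular_pair a b (haG.of_injective f hf) fun x y hxy => ?_) fun r hr => ?_)
      · have h0 : b • (Submodule.Quotient.mk (f x) : QuotSMulTop a G) = b • 0 := by
          rw [smul_zero, ← Submodule.Quotient.mk_smul, Submodule.Quotient.mk_eq_zero, ← map_smul, hxy,
            map_smul, Submodule.mem_smul_pointwise_iff_exists]
          exact ⟨f y, trivial, rfl⟩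
        have h1 := (isWeaklyRegular_singleton_iff _ b).1 hbG h0
        rw [Submodule.Quotient.mk_eq_zero, Submodule.mem_smul_pointwise_iff_exists] at h1
        obtain ⟨w, -, hw⟩ := h1
        obtain ⟨z, rfl⟩ := (hfg w).1 (haH (show a • g w = a • 0 by
          rw [smul_zero, ← map_smul, hw, hfg.apply_apply_eq_zero]))
        exact ⟨z, hf (by rw [map_smul]; exact hw.symm)⟩
      · refine hm r ?_
        simp only [List.mem_cons, List.not_mem_nil, or_false] at hr ⊢
        tauto
  conv_lhs => arg 2; unfold LocCoh.depth LocCoh.idealDepth; rw [if_neg hA]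
  rw [iSup_subtype', min_def]
  split
  · rename_i h2
    obtain ⟨⟨rs, hrs⟩, hlt⟩ := lt_iSup_iff.1 (show (1 : ℕ∞) < _ from lt_of_lt_of_le (by norm_num) h2)
    refine le_trans (le_min le_rfl ?_) (key rs hrs.1 hrs.2)
    exact Order.add_one_le_of_lt hlt
  · rename_i h2
    refine iSup_le fun rs => le_trans (le_min ?_ le_rfl) (key rs.1 rs.2.1 rs.2.2)
    exact (le_iSup (fun r => ((r : {rs : List A // _}).1.length : ℕ∞)) rs).trans (not_le.1 h2).le

end Groth.DepthPush
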