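import Groth.Agent.DepthPush.Algebra
import Groth.Agent.Flatmor4.FlatModAffine
import Groth.Agent.CohTwo.Glue
import Groth.Agent.QCohMod.PullbackSections
import Mathlib.RingTheory.Flat.Basic
import Mathlib.LinearAlgebra.DFinsupp

/-!
# Depth of the stalks of a direct image
-/

set_option autoImplicit false
set_option linter.style.haveILetI false

universe u

open CategoryTheory AlgebraicGeometry TopologicalSpace TensorProduct

noncomputable section

namespace Groth.DepthPush

open Groth.QCohMod (res res_res res_smul resFun germₗ stalkModule)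

variable {X S : Scheme.{u}} (f : X ⟶ S) (F : X.Modules) (V : S.Opens)

/-- Sections over an open of the preimage, as a module downstairs. -/
def Sec {U : X.Opens} (_ : U ≤ f ⁻¹ᵁ V) : Type u := Γ(F, U)

instance {U : X.Opens} (e : U ≤ f ⁻¹ᵁ V) : AddCommGroup (Sec f F V e) :=
  inferInstanceAs (AddCommGroup Γ(F, U))

instance {U : X.Opens} (e : U ≤ f ⁻¹ᵁ V) : Module Γ(S, V) (Sec f F V e) :=
  Flatmor4.sectionModule f F e

variable {f F V}

lemma Sec.smul_def {U : X.Opens} (e : U ≤ f ⁻¹ᵁ V) (r : Γ(S, V)) (x : Sec f F V e) :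
    r • x = (show Sec f F V e from (f.appLE V U e r) • (show Γ(F, U) from x)) := rfl

/-- Restriction. -/
def Sec.res {U U' : X.Opens} (e : U ≤ f ⁻¹ᵁ V) (e' : U' ≤ f ⁻¹ᵁ V) (h : U' ≤ U) :
    Sec f F V e →ₗ[Γ(S, V)] Sec f F V e' where
  toFun x := QCohMod.res F h (show Γ(F, U) from x)
  map_add' a b := map_add (QCohMod.res F h) (show Γ(F, U) from a) (show Γ(F, U) from b)
  map_smul' r x := by
    show QCohMod.res F h ((f.appLE V U e r) • (show Γ(F, U) from x)) =
      (f.appLE V U' e' r) • QCohMod.res F h (show Γ(F, U) from x)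
    rw [res_smul]
    congr 1
    exact congr($(Scheme.Hom.appLE_map (f := f) e (homOfLE h).op) r)

/-- Multiplication by functions upstairs. -/
def Sec.mul {U : X.Opens} (e : U ≤ f ⁻¹ᵁ V) (b : Γ(X, U)) :
    Sec f F V e →ₗ[Γ(S, V)] Sec f F V e where
  toFun x := b • (show Γ(F, U) from x)
  map_add' x y := smul_add b (show Γ(F, U) from x) (show Γ(F, U) from y)
  map_smul' r x := smul_comm b (f.appLE V U e r) (show Γ(F, U) from x)

variable {ι : Type u} [Fintype ι] [DecidableEq ι] (U : ι → X.Opens) (e : ∀ i, U i ≤ f ⁻¹ᵁ V)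
  {A : Type u} [CommRing A] [Algebra Γ(S, V) A]

/-- An endomorphism of a product supported at one factor. -/
def factorEnd (i : ι) (b : Γ(X, U i)) : Module.End Γ(S, V) (∀ j, Sec f F V (e j)) :=
  LinearMap.single Γ(S, V) (fun j => Sec f F V (e j)) i ∘ₗ Sec.mul (e i) b ∘ₗ LinearMap.proj i

omit [Fintype ι] in
lemma factorEnd_add (i : ι) (b c : Γ(X, U i)) :
    factorEnd (F := F) U e i (b + c) = factorEnd U e i b + factorEnd U e i c := by
  have h : Sec.mul (F := F) (e i) (b + c) = Sec.mul (e i) b + Sec.mul (e i) c :=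
    LinearMap.ext fun x => add_smul b c (show Γ(F, U i) from x)
  simp only [factorEnd, h, LinearMap.add_comp, LinearMap.comp_add]

omit [Fintype ι] in
lemma factorEnd_mul (i : ι) (b c : Γ(X, U i)) :
    factorEnd (F := F) U e i (b * c) = factorEnd U e i b * factorEnd U e i c := by
  have h : Sec.mul (F := F) (e i) (b * c) = Sec.mul (e i) b ∘ₗ Sec.mul (e i) c :=
    LinearMap.ext fun x => mul_smul b c (show Γ(F, U i) from x)
  refine LinearMap.ext fun x => ?_
  simp [factorEnd, h, Module.End.mul_apply]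

omit [Fintype ι] in
lemma factorEnd_appLE (i : ι) (r : Γ(S, V)) :
    factorEnd (F := F) U e i (f.appLE V (U i) (e i) r) = r • factorEnd U e i 1 := by
  have h : Sec.mul (F := F) (e i) (f.appLE V (U i) (e i) r) = r • Sec.mul (e i) 1 :=
    LinearMap.ext fun x => congrArg (fun y : Γ(F, U i) => f.appLE V (U i) (e i) r • y)
      (one_smul Γ(X, U i) (show Γ(F, U i) from x)).symm
  simp only [factorEnd, h, LinearMap.smul_comp, LinearMap.comp_smul]

lemma sum_factorEnd_one : ∑ i, factorEnd (F := F) U e i 1 = 1 := by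
  refine LinearMap.ext fun x => ?_
  rw [LinearMap.sum_apply]
  refine Eq.trans (Finset.sum_congr rfl fun i _ => ?_) (Finset.univ_sum_single x)
  exact congrArg (Pi.single i) (one_smul Γ(X, U i) (show Γ(F, U i) from x i))

/-- Base change of products of sections over opens missing the fibre is unital. -/
theorem unital_baseChange (p : Ideal Γ(S, V)) (m : Ideal A) (hm : p.map (algebraMap Γ(S, V) A) ≤ m)
    (h : ∀ i, ∃ t : Γ(S, V), IsUnit (algebraMap Γ(S, V) A t) ∧
      f.appLE V (U i) (e i) t ∈ p.map (f.appLE V (U i) (e i)).hom) :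
    Unital m (A ⊗[Γ(S, V)] (∀ i, Sec f F V (e i))) := by
  let β : Module.End Γ(S, V) (∀ i, Sec f F V (e i)) →
      Module.End A (A ⊗[Γ(S, V)] (∀ i, Sec f F V (e i))) := fun φ => φ.baseChange A
  have hone : (1 : Module.End A (A ⊗[Γ(S, V)] (∀ i, Sec f F V (e i)))) =
      ∑ i, β (factorEnd (F := F) U e i 1) := by
    show _ = ∑ i, LinearMap.baseChangeHom Γ(S, V) A _ _ (factorEnd (F := F) U e i 1)
    rw [← map_sum, sum_factorEnd_one]
    exact (LinearMap.baseChange_id).symm
  rw [Unital, hone]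
  refine Submodule.sum_mem _ fun i _ => ?_
  obtain ⟨t, ht, htp⟩ := h i
  have key : ∀ b ∈ p.map (f.appLE V (U i) (e i)).hom,
      β (factorEnd (F := F) U e i b) ∈ m • (⊤ : Submodule A (Module.End A _)) := by
    intro b hb
    rw [Ideal.map] at hb
    induction hb using Submodule.span_induction with
    | mem x hx =>
      obtain ⟨r, hr, rfl⟩ := hx
      rw [show β (factorEnd (F := F) U e i (f.appLE V (U i) (e i) r)) =
        algebraMap Γ(S, V) A r • β (factorEnd (F := F) U e i 1) by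
          simp only [β, factorEnd_appLE, LinearMap.baseChange_smul, algebraMap_smul]]
      exact Submodule.smul_mem_smul (hm (Ideal.mem_map_of_mem _ hr)) trivial
    | zero =>
      have : factorEnd (F := F) U e i 0 = 0 := by
        have := factorEnd_add (F := F) U e i 0 0
        rw [add_zero] at this
        exact left_eq_add.1 this
      simp only [β, this, LinearMap.baseChange_zero]
      exact zero_mem _
    | add x y _ _ hx hy =>
      simp only [β, factorEnd_add, LinearMap.baseChange_add]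
      exact add_mem hx hy
    | smul c x _ hx =>
      rw [smul_eq_mul]
      simp only [β, factorEnd_mul, LinearMap.baseChange_mul]
      change LinearMap.baseChange A (factorEnd (F := F) U e i x) ∈ _ at hx
      revert hx
      generalize LinearMap.baseChange A (factorEnd (F := F) U e i x) = y
      intro hx
      refine Submodule.smul_induction_on hx (fun a ha φ _ => ?_) fun φ ψ hφ hψ => ?_
      · rw [mul_smul_comm]
        exact Submodule.smul_mem_smul ha trivial
      · rw [mul_add]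
        exact add_mem hφ hψ
  have := key _ htp
  simp only [β, factorEnd_appLE, LinearMap.baseChange_smul] at this
  rw [← algebraMap_smul A t] at this
  exact (Submodule.smul_mem_iff_of_isUnit _ ht).1 this

variable {U e}

/-- An affine open missing the fibre over the point: the maximal ideal generates the unit ideal locally. -/
theorem exists_notMem_map_of_disjoint {U : X.Opens} (hU : IsAffineOpen U) (hV : IsAffineOpen V) (e : U ≤ f ⁻¹ᵁ V)
    (s : S) (hs : s ∈ V) (h : ∀ x ∈ U, f x ≠ s) :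
    ∃ t : Γ(S, V), t ∉ (hV.primeIdealOf ⟨s, hs⟩).asIdeal ∧
      f.appLE V U e t ∈ (hV.primeIdealOf ⟨s, hs⟩).asIdeal.map (f.appLE V U e).hom := by
  let p := (hV.primeIdealOf ⟨s, hs⟩).asIdeal
  by_contra! hno
  obtain ⟨Q, hQ, hle, hd⟩ := Ideal.exists_le_prime_disjoint (p.map (f.appLE V U e).hom)
    (p.primeCompl.map (f.appLE V U e).hom.toMonoidHom) (Set.disjoint_left.2 fun y hy hy' => by
      obtain ⟨t, ht, rfl⟩ := hy'
      exact hno t ht hy)
  let q : PrimeSpectrum Γ(X, U) := ⟨Q, hQ⟩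
  have hx : hU.fromSpec q ∈ U := by
    show hU.fromSpec q ∈ (U : Set X)
    rw [← hU.range_fromSpec]
    exact ⟨q, rfl⟩
  have hq : hU.primeIdealOf ⟨hU.fromSpec q, hx⟩ = q :=
    hU.isOpenImmersion_fromSpec.base_open.injective (hU.fromSpec_primeIdealOf _)
  have hc := IsAffineOpen.comap_primeIdealOf_appLE (f := f) V hV U hU e hx
  rw [hq] at hc
  have hQp : Q.comap (f.appLE V U e).hom = p := by
    refine le_antisymm (fun r hr => by_contra fun hrp => ?_) (Ideal.map_le_iff_le_comap.1 hle)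
    exact Set.disjoint_left.1 hd hr ⟨r, hrp, rfl⟩
  have hp : hV.primeIdealOf ⟨f (hU.fromSpec q), e hx⟩ = hV.primeIdealOf ⟨s, hs⟩ := by
    refine hc.symm.trans (PrimeSpectrum.ext ?_)
    exact hQp
  refine h _ hx ?_
  have := congrArg hV.fromSpec hp
  rwa [hV.fromSpec_primeIdealOf, hV.fromSpec_primeIdealOf] at this

instance flat_pi {R : Type u} [CommRing R] {J : Type u} [Fintype J] [DecidableEq J] (M : J → Type u)
    [∀ i, AddCommGroup (M i)] [∀ i, Module R (M i)] [∀ i, Module.Flat R (M i)] :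
    Module.Flat R (∀ i, M i) :=
  Module.Flat.of_linearEquiv (DirectSum.linearEquivFunOnFintype R J M).symm

/-- A compact open is covered by finitely many affines. -/
theorem exists_finite_affine_cover (W : X.Opens) (hW : IsCompact (W : Set X)) :
    ∃ (J : Type u) (_ : Fintype J) (U : J → X.Opens), (∀ j, IsAffineOpen (U j)) ∧ (∀ j, U j ≤ W) ∧
      ∀ x ∈ W, ∃ j, x ∈ U j := by
  let I := {U : X.Opens // IsAffineOpen U ∧ U ≤ W}
  obtain ⟨t, ht⟩ := hW.elim_finite_subcover (fun U : I => (U.1 : Set X)) (fun U => U.1.2) fun x hx => by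
    obtain ⟨_, ⟨U : X.Opens, hU, rfl⟩, hxU, hUW⟩ :=
      X.isBasis_affineOpens.exists_subset_of_mem_open (show x ∈ W from hx) W.2
    exact Set.mem_iUnion.2 ⟨⟨U, hU, hUW⟩, hxU⟩
  refine ⟨t, inferInstance, fun U => U.1.1, fun U => U.1.2.1, fun U => U.1.2.2, fun x hx => ?_⟩
  obtain ⟨U, hUt, hxU⟩ := Set.mem_iUnion₂.1 (ht hx)
  exact ⟨⟨U, hUt⟩, hxU⟩

/-- Sections over a quasi-compact quasi-separated open as a kernel. -/
theorem exists_exact [QuasiCompact f] [QuasiSeparated f] (F : X.Modules) (hV : IsAffineOpen V) :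
    ∃ (J K : Type u) (_ : Fintype J) (_ : DecidableEq J) (_ : Fintype K) (_ : DecidableEq K)
      (U : J → X.Opens) (P : K → X.Opens) (eU : ∀ j, U j ≤ f ⁻¹ᵁ V) (eP : ∀ k, P k ≤ f ⁻¹ᵁ V)
      (ρ : Sec f F V (U := f ⁻¹ᵁ V) le_rfl →ₗ[Γ(S, V)] ∀ j, Sec f F V (eU j))
      (δ : (∀ j, Sec f F V (eU j)) →ₗ[Γ(S, V)] ∀ k, Sec f F V (eP k)),
      (∀ j, IsAffineOpen (U j)) ∧ (∀ k, IsAffineOpen (P k)) ∧
        Function.Injective ρ ∧ Function.Exact ρ δ := by
  classical
  obtain ⟨J, _, U, hU, eU, hcov⟩ := exists_finite_affine_cover (f ⁻¹ᵁ V) (f.isCompact_preimage hV.isCompact)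
  have hqs := f.isQuasiSeparated_preimage hV.isQuasiSeparated
  have hc : ∀ p : J × J, IsCompact ((U p.1 ⊓ U p.2 : X.Opens) : Set X) := fun p =>
    hqs _ _ (eU p.1) (U p.1).2 (hU p.1).isCompact (eU p.2) (U p.2).2 (hU p.2).isCompact
  choose L fL P hP hPle hPcov using fun p : J × J => exists_finite_affine_cover _ (hc p)
  haveI := fL
  let eP : ∀ k : (Σ p : J × J, L p), P k.1 k.2 ≤ f ⁻¹ᵁ V := fun k =>
    ((hPle k.1 k.2).trans inf_le_left).trans (eU k.1.1)
  let ρ : Sec f F V (U := f ⁻¹ᵁ V) le_rfl →ₗ[Γ(S, V)] ∀ j, Sec f F V (eU j) :=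
    LinearMap.pi fun j => Sec.res le_rfl (eU j) (eU j)
  let δ : (∀ j, Sec f F V (eU j)) →ₗ[Γ(S, V)] ∀ k : (Σ p : J × J, L p), Sec f F V (eP k) :=
    LinearMap.pi fun k =>
      (Sec.res (eU k.1.1) (eP k) ((hPle k.1 k.2).trans inf_le_left)) ∘ₗ LinearMap.proj k.1.1 -
      (Sec.res (eU k.1.2) (eP k) ((hPle k.1 k.2).trans inf_le_right)) ∘ₗ LinearMap.proj k.1.2
  refine ⟨J, Σ p : J × J, L p, ‹_›, inferInstance, inferInstance, inferInstance, U,
    fun k => P k.1 k.2, eU, eP, ρ, δ, hU, fun k => hP k.1 k.2, fun x y h => ?_, fun g => ⟨fun hg => ?_, ?_⟩⟩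
  · refine CohTwo.eq_of_local F (W := f ⁻¹ᵁ V) x y fun z hz => ?_
    obtain ⟨j, hj⟩ := hcov z hz
    exact ⟨U j, eU j, hj, congrFun h j⟩
  · obtain ⟨x, hx⟩ := CohTwo.exists_glue F U eU hcov (fun j => (show Γ(F, U j) from g j)) fun i j => by
      refine CohTwo.eq_of_local F (W := U i ⊓ U j) _ _ fun z hz => ?_
      obtain ⟨l, hl⟩ := hPcov (i, j) z hz
      refine ⟨P (i, j) l, hPle (i, j) l, hl, ?_⟩
      refine (res_res F _ _ _).trans (Eq.trans ?_ (res_res F _ _ _).symm)
      exact sub_eq_zero.1 (congrFun hg ⟨(i, j), l⟩)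
    exact ⟨x, funext hx⟩
  · rintro ⟨x, rfl⟩
    funext k
    refine sub_eq_zero.2 ?_
    exact (res_res F (eU _) _ (show Γ(F, f ⁻¹ᵁ V) from x)).trans
      (res_res F (eU _) _ (show Γ(F, f ⁻¹ᵁ V) from x)).symm

/-- The depth of the stalks of a direct image. -/
theorem depth_stalk_pushforward [QuasiCompact f] [QuasiSeparated f] (F : X.Modules) [F.IsQuasicoherent] (s : S)
    [Module.Finite (S.presheaf.stalk s) (((Scheme.Modules.pushforward f).obj F).presheaf.stalk s)] :
    ((s ∉ Set.range (fun x => f x)) → IsNoetherianRing (S.presheaf.stalk s) →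
        (2 : ℕ∞) ≤ LocCoh.depth (S.presheaf.stalk s) (((Scheme.Modules.pushforward f).obj F).presheaf.stalk s)) ∧
      (FlatMod.IsFlatOver f F →
        min (2 : ℕ∞) (LocCoh.depth (S.presheaf.stalk s) (S.presheaf.stalk s)) ≤
          LocCoh.depth (S.presheaf.stalk s) (((Scheme.Modules.pushforward f).obj F).presheaf.stalk s)) := by
  obtain ⟨V, hV, hs⟩ := QCohMod.exists_affine_mem s
  let G := (Scheme.Modules.pushforward f).obj F
  haveI : G.IsQuasicoherent := QCohMod.isQCoh_pushforward (M := F) f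
  let _ : Algebra Γ(S, V) (S.presheaf.stalk s) := TopCat.Presheaf.algebra_section_stalk S.presheaf ⟨s, hs⟩
  haveI : IsLocalization.AtPrime (S.presheaf.stalk s) (hV.primeIdealOf ⟨s, hs⟩).asIdeal :=
    hV.isLocalization_stalk ⟨s, hs⟩
  haveI : Module.Flat Γ(S, V) (S.presheaf.stalk s) :=
    IsLocalization.flat _ (hV.primeIdealOf ⟨s, hs⟩).asIdeal.primeCompl
  let _ := stalkModule G s hs
  haveI : IsScalarTower Γ(S, V) (S.presheaf.stalk s) (G.presheaf.stalk s) := IsScalarTower.of_compHom _ _ _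
  haveI := QCohMod.isLocalizedModule_germ G hV s hs
  have hbc : IsBaseChange (S.presheaf.stalk s) (germₗ G s hs) :=
    IsLocalizedModule.isBaseChange (hV.primeIdealOf ⟨s, hs⟩).asIdeal.primeCompl _ _
  obtain ⟨J, K, _, _, _, _, U, P, eU, eP, ρ, δ, hU, hP, hinj, hex⟩ := exists_exact (f := f) F hV
  let κ : Γ(G, V) ≃ₗ[Γ(S, V)] Sec f F V (U := f ⁻¹ᵁ V) le_rfl :=
    { toFun := fun x => (show Γ(F, f ⁻¹ᵁ V) from x)
      invFun := fun x => (show Γ(F, f ⁻¹ᵁ V) from x)
      map_add' := fun _ _ => rfl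
      map_smul' := fun r x => by
        show (show Γ(F, f ⁻¹ᵁ V) from r • x) = f.appLE V (f ⁻¹ᵁ V) le_rfl r • (show Γ(F, f ⁻¹ᵁ V) from x)
        rw [← Scheme.Hom.app_eq_appLE]
        rfl
      left_inv := fun _ => rfl
      right_inv := fun _ => rfl }
  let F₁ := (ρ ∘ₗ κ.toLinearMap).baseChange (S.presheaf.stalk s) ∘ₗ hbc.equiv.symm.toLinearMap
  let F₂ := δ.baseChange (S.presheaf.stalk s)
  have h1 : Function.Injective F₁ :=
    (show Function.Injective ((ρ ∘ₗ κ.toLinearMap).lTensor (S.presheaf.stalk s)) from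
      Module.Flat.lTensor_preserves_injective_linearMap (M := S.presheaf.stalk s) _
        (hinj.comp κ.injective)).comp hbc.equiv.symm.injective
  have h2 : Function.Exact F₁ F₂ := by
    have h0 : Function.Exact ((ρ ∘ₗ κ.toLinearMap).lTensor (S.presheaf.stalk s)) (δ.lTensor (S.presheaf.stalk s)) :=
      Module.Flat.lTensor_exact _ fun y => (hex y).trans (by
        rw [LinearMap.coe_comp, LinearEquiv.coe_coe, κ.surjective.range_comp])
    intro y
    refine (h0 y).trans ?_
    show y ∈ Set.range ((ρ ∘ₗ κ.toLinearMap).lTensor (S.presheaf.stalk s)) ↔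
      y ∈ Set.range (((ρ ∘ₗ κ.toLinearMap).lTensor (S.presheaf.stalk s)) ∘ hbc.equiv.symm)
    rw [hbc.equiv.symm.surjective.range_comp]
  refine ⟨fun hns hN => ?_, fun hflat => ?_⟩
  · have hm : (hV.primeIdealOf ⟨s, hs⟩).asIdeal.map (algebraMap Γ(S, V) (S.presheaf.stalk s)) ≤
        IsLocalRing.maximalIdeal (S.presheaf.stalk s) :=
      (IsLocalization.AtPrime.map_eq_maximalIdeal (hV.primeIdealOf ⟨s, hs⟩).asIdeal _).le
    have hu : ∀ {J' : Type u} [Fintype J'] [DecidableEq J'] (U' : J' → X.Opens) (e' : ∀ j, U' j ≤ f ⁻¹ᵁ V),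
        (∀ j, IsAffineOpen (U' j)) →
        Unital (IsLocalRing.maximalIdeal (S.presheaf.stalk s)) (S.presheaf.stalk s ⊗[Γ(S, V)] (∀ j, Sec f F V (e' j))) :=
      fun U' e' hU' => unital_baseChange U' e' _ _ hm fun j => by
        obtain ⟨t, ht, htp⟩ := exists_notMem_map_of_disjoint (hU' j) hV (e' j) s hs
          fun x _ hx => hns ⟨x, hx⟩
        exact ⟨t, IsLocalization.map_units (M := (hV.primeIdealOf ⟨s, hs⟩).asIdeal.primeCompl)
          (S.presheaf.stalk s) ⟨t, ht⟩, htp⟩
    exact two_le_depth_of_unital F₁ F₂ h1 h2 (hu U eU hU) (hu P eP hP)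
  · haveI : ∀ j, Module.Flat Γ(S, V) (Sec f F V (eU j)) := fun j =>
      (Flatmor4.flat_sections_iff f F (hU j) hV (eU j)).2 fun x _ => hflat x
    haveI : ∀ k, Module.Flat Γ(S, V) (Sec f F V (eP k)) := fun k =>
      (Flatmor4.flat_sections_iff f F (hP k) hV (eP k)).2 fun x _ => hflat x
    exact min_two_le_depth_of_flat F₁ F₂ h1 h2

end Groth.DepthPush
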